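/-
Elements of prime order in the alternating group that avoid a given overgroup of a point stabiliser.
-/
import Cfsg.Agent.Lib.Lead.Sylvester.Main
import Cfsg.Agent.S0713
import Mathlib.GroupTheory.Perm.Cycle.PossibleTypes
import Mathlib.GroupTheory.GroupAction.Blocks

set_option autoImplicit false

namespace Cfsg.Agent.Lead.AltDerange

open Equiv Equiv.Perm
open scoped Pointwise

theorem not_sq_dvd_factorial {r : ℕ} (hr : r.Prime) : ∀ j, j < 2 * r → ¬ r * r ∣ j.factorial := by
  intro j
  induction j with
  | zero =>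
    intro _ h
    have := Nat.le_of_dvd (Nat.factorial_pos 0) h
    simp [Nat.factorial_zero] at this
    nlinarith [hr.two_le]
  | succ j ih =>
    intro hj h
    rw [Nat.factorial_succ] at h
    by_cases hd : r ∣ j + 1
    · have hje : j + 1 = r := by
        obtain ⟨c, hc⟩ := hd
        rcases c with _ | _ | c
        · omega
        · omega
        · nlinarith
      rw [hje] at h
      have := Nat.dvd_of_mul_dvd_mul_left hr.pos h
      rw [hr.dvd_factorial] at this
      omega
    · exact ih (by omega) ((Nat.Coprime.dvd_of_dvd_mul_left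
        (Nat.Coprime.mul_left (hr.coprime_iff_not_dvd.2 hd) (hr.coprime_iff_not_dvd.2 hd))) h)

/-- A conjugate of any `p`-element lies in a subgroup of index prime to `p`. -/
theorem exists_conj_mem {T : Type*} [Group T] [Finite T] (A : Subgroup T) (p : ℕ) [hp : Fact p.Prime]
    (hA : ¬ p ∣ A.index) (x : T) (hx : IsPGroup p (Subgroup.zpowers x)) :
    ∃ t : T, t * x * t⁻¹ ∈ A := by
  obtain ⟨Q⟩ := (inferInstance : Nonempty (Sylow p A))
  obtain ⟨P, hxP⟩ := hx.exists_le_sylow
  have hQ : IsPGroup p ((Q : Subgroup A).map A.subtype) := Q.isPGroup'.map _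
  have hidx : ¬ p ∣ ((Q : Subgroup A).map A.subtype).index := by
    rw [Subgroup.index_map_subtype, hp.out.dvd_mul]
    rintro (h | h)
    · exact Sylow.not_dvd_index Q h
    · exact hA h
  obtain ⟨t, ht⟩ := MulAction.exists_smul_eq T P (hQ.toSylow hidx)
  refine ⟨t, ?_⟩
  have hx2 : t * x * t⁻¹ ∈ (t • P : Sylow p T) := by
    rw [← SetLike.mem_coe, Sylow.coe_smul, Set.mem_smul_set]
    exact ⟨x, hxP (Subgroup.mem_zpowers x), by simp [MulAut.smul_def]⟩
  rw [ht] at hx2
  obtain ⟨a, -, ha⟩ := Subgroup.mem_map.1 hx2
  exact ha ▸ a.2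

variable {m : ℕ}

/-- The permutation with `c` cycles of length `r`. -/
theorem exists_cycles {r c : ℕ} (hr : 2 ≤ r) (hc : c * r ≤ m) :
    ∃ σ : Perm (Fin m), σ.cycleType = Multiset.replicate c r := by
  refine (exists_with_cycleType_iff _).2 ⟨?_, fun a ha => ?_⟩
  · simpa using hc
  · rw [Multiset.eq_of_mem_replicate ha]; exact hr

theorem orderOf_cycles {r c : ℕ} (hc : c ≠ 0) {σ : Perm (Fin m)}
    (h : σ.cycleType = Multiset.replicate c r) : orderOf σ = r := by
  rw [← lcm_cycleType, h]
  induction c with
  | zero => exact absurd rfl hc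
  | succ c ih =>
    rw [Multiset.replicate_succ, Multiset.lcm_cons]
    rcases Nat.eq_zero_or_pos c with rfl | hc'
    · simp
    · have : (Multiset.replicate c r).lcm = r := by
        clear ih h hc
        induction c with
        | zero => omega
        | succ c ih =>
          rw [Multiset.replicate_succ, Multiset.lcm_cons]
          rcases Nat.eq_zero_or_pos c with rfl | hc''
          · simp
          · rw [ih hc'', lcm_same, normalize_eq]
      rw [this, lcm_same, normalize_eq]

theorem sign_cycles {r c : ℕ} {σ : Perm (Fin m)} (h : σ.cycleType = Multiset.replicate c r)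
    (he : Even (c * r + c)) : σ ∈ alternatingGroup (Fin m) := by
  rw [mem_alternatingGroup, sign_of_cycleType, h, Multiset.sum_replicate, Multiset.card_replicate,
    smul_eq_mul]
  exact he.neg_one_pow

theorem even_cycles_of_odd {r : ℕ} (hr : Odd r) (c : ℕ) : Even (c * r + c) := by
  obtain ⟨i, rfl⟩ := hr
  exact ⟨c * i + c, by ring⟩

/-- The intransitive case: `r` exceeds the size of an invariant set and divides the binomial. -/
theorem intransitive_case {k r : ℕ} (hm : 5 ≤ m) (hk : 1 ≤ k) (hkm : 2 * k ≤ m) (hr : r.Prime)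
    (hrd : r ∣ m.choose k) (hrk : k < r) (hr2m : 2 * r ≤ m) (h2 : r = 2 → 4 ∣ m)
    (D : Finset (Fin m)) (hD : D.card = k) :
    ∃ x ∈ alternatingGroup (Fin m), orderOf x = r ∧
      ∀ π : Perm (Fin m), ¬ ∀ z ∈ D, (π * x * π⁻¹) z ∈ D := by
  have hrp := hr.two_le
  obtain ⟨σ, hσ⟩ := exists_cycles (m := m) (r := r) (c := m / r) hrp (Nat.div_mul_le_self m r)
  have hc0 : m / r ≠ 0 := (Nat.div_pos (by omega) hr.pos).ne'
  have hord := orderOf_cycles hc0 hσ
  have hres : m % r < k := by
    have hd : r ∣ m.descFactorial k := by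
      rw [Nat.descFactorial_eq_factorial_mul_choose]
      exact hrd.mul_left _
    rw [Nat.descFactorial_eq_prod_range] at hd
    obtain ⟨i, hi, hdi⟩ := (Prime.dvd_finsetProd_iff hr.prime _).1 hd
    rw [Finset.mem_range] at hi
    obtain ⟨c, hc⟩ := hdi
    have : m = r * c + i := by omega
    rw [this, Nat.mul_add_mod, Nat.mod_eq_of_lt (by omega)]
    exact hi
  have heven : Even (m / r * r + m / r) := by
    rcases hr.eq_two_or_odd' with rfl | ho
    · obtain ⟨c, rfl⟩ := h2 rfl
      exact ⟨3 * c, by omega⟩
    · exact even_cycles_of_odd ho _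
  refine ⟨σ, sign_cycles hσ heven, hord, fun π hfix => ?_⟩
  set y := π * σ * π⁻¹ with hy
  have hyT : y.cycleType = Multiset.replicate (m / r) r := by rw [hy, cycleType_conj]; exact hσ
  have hsupp : y.support.card = m / r * r := by
    rw [← sum_cycleType, hyT, Multiset.sum_replicate, smul_eq_mul]
  -- every point of `D` is fixed
  have hDfix : ∀ z ∈ D, y z = z := by
    intro z hz
    by_contra hne
    have hzs : z ∈ y.support := mem_support.2 hne
    have hlen : (y.cycleOf z).support.card = r := by
      have : (y.cycleOf z).support.card ∈ y.cycleType := by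
        rw [cycleType_def]
        exact Multiset.mem_map.2 ⟨y.cycleOf z, cycleOf_mem_cycleFactorsFinset_iff.2 hzs, rfl⟩
      rw [hyT] at this
      exact Multiset.eq_of_mem_replicate this
    have hsub : (y.cycleOf z).support ⊆ D := by
      intro w hw
      obtain ⟨i, rfl⟩ := ((mem_support_cycleOf_iff' hne).1 hw).exists_nat_pow_eq
      clear hw
      induction i with
      | zero => simpa using hz
      | succ i ih => rw [pow_succ', Perm.mul_apply]; exact hfix _ ih
    have := Finset.card_le_card hsub
    omega
  have hdisj : D ⊆ y.supportᶜ := fun z hz => by simp [hDfix z hz]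
  have h3 := Finset.card_le_card hdisj
  rw [Finset.card_compl, Fintype.card_fin, hsupp] at h3
  have h4 := Nat.div_add_mod m r
  have h5 : r * (m / r) = m / r * r := Nat.mul_comm _ _
  omega

/-- A transitive group with a nontrivial block contains no element of prime order `p > m / 2`. -/
theorem imprimitive_case (K : Subgroup (Perm (Fin m))) {B : Set (Fin m)}
    (hB : MulAction.IsBlock K B) (ha : 2 ≤ B.ncard) (ham : 2 * B.ncard ≤ m)
    [MulAction.IsPretransitive K (Fin m)] {p : ℕ} (hp : p.Prime) (hpm : m < 2 * p) :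
    ¬ p ∣ Nat.card K := by
  classical
  intro hdvd
  haveI := Fact.mk hp
  obtain ⟨s, hs⟩ := exists_prime_orderOf_dvd_card' p hdvd
  obtain ⟨z, hz⟩ : ∃ z : Fin m, s • z ≠ z := by
    by_contra! hall
    have : s = 1 := Subtype.ext (Equiv.ext fun z => hall z)
    rw [this, orderOf_one] at hs
    exact hp.ne_one hs.symm
  obtain ⟨b, hb⟩ : B.Nonempty := Set.nonempty_of_ncard_ne_zero (by omega)
  obtain ⟨g, hg⟩ := MulAction.exists_smul_eq K b z
  set C : Set (Fin m) := g • B with hC
  have hCb : MulAction.IsBlock K C := hB.translate g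
  have hzC : z ∈ C := ⟨b, hb, hg⟩
  have hCcard : C.ncard = B.ncard := Set.ncard_smul_set g B
  have hinj : ∀ {X : Type} [MulAction K X] (x : X), s • x ≠ x →
      Function.Injective fun i : Fin p => s ^ (i : ℕ) • x := by
    intro X _ x hx
    have key : ∀ i j : ℕ, i < j → j < p → s ^ i • x ≠ s ^ j • x := by
      intro i j hij hjp h
      rw [show j = i + (j - i) by omega, pow_add, mul_smul] at h
      have hco : Nat.Coprime (j - i) (orderOf s) := by
        rw [hs]
        exact (hp.coprime_iff_not_dvd.2 (Nat.not_dvd_of_pos_of_lt (by omega) (by omega))).symm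
      obtain ⟨e, he⟩ := exists_pow_eq_self_of_coprime hco
      apply hx
      rw [← he]
      exact pow_mem (show s ^ (j - i) ∈ MulAction.stabilizer K x from
        (smul_left_cancel _ h).symm) e
    intro i j h
    rcases lt_trichotomy (i : ℕ) j with h1 | h1 | h1
    · exact absurd h (key _ _ h1 j.2)
    · exact Fin.ext h1
    · exact absurd h.symm (key _ _ h1 i.2)
  have hpts := hinj z hz
  by_cases hfixC : s • C = C
  · have hall : ∀ i : Fin p, s ^ (i : ℕ) • z ∈ C := by
      intro i
      have : ∀ j : ℕ, s ^ j • C = C := fun j => by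
        induction j with
        | zero => simp
        | succ j ih => rw [pow_succ, mul_smul, hfixC, ih]
      rw [← this i]
      exact Set.smul_mem_smul_set hzC
    have h1 := Set.ncard_le_ncard (Set.range_subset_iff.2 hall) (Set.toFinite C)
    rw [Set.ncard_range_of_injective hpts, Nat.card_eq_fintype_card, Fintype.card_fin] at h1
    omega
  · have hsets := hinj C hfixC
    set S : Fin p → Finset (Fin m) := fun i => (s ^ (i : ℕ) • C).toFinset with hS
    have hdis : ((Finset.univ : Finset (Fin p)) : Set (Fin p)).PairwiseDisjoint S := by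
      intro i _ j _ hij
      rw [Function.onFun, hS, Set.disjoint_toFinset]
      exact hCb (fun e => hij (hsets e))
    have h1 := Finset.card_le_univ (Finset.univ.biUnion S)
    rw [Finset.card_biUnion hdis, Fintype.card_fin] at h1
    have h2 : ∀ i, (S i).card = B.ncard := fun i => by
      rw [hS, ← Set.ncard_eq_toFinset_card', Set.ncard_smul_set, hCcard]
    rw [Finset.sum_congr rfl fun i _ => h2 i, Finset.sum_const, Finset.card_univ, Fintype.card_fin,
      smul_eq_mul] at h1
    nlinarith

/-- A primitive proper group contains no conjugate of an `r`-cycle with `r + 3 ≤ m`. -/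
theorem primitive_case (hm : 5 ≤ m) (K : Subgroup (Perm (Fin m)))
    (hK : MulAction.IsPreprimitive K (Fin m)) (hA : ¬ alternatingGroup (Fin m) ≤ K) {r : ℕ}
    (hr : r.Prime) (hr2 : r ≠ 2) (hrm : 2 * r ≤ m) :
    ∃ x ∈ alternatingGroup (Fin m), orderOf x = r ∧ ∀ π : Perm (Fin m), π * x * π⁻¹ ∉ K := by
  have hrp := hr.two_le
  obtain ⟨σ, hσ⟩ := exists_cycles (m := m) (r := r) (c := 1) hrp (by omega)
  refine ⟨σ, sign_cycles hσ (even_cycles_of_odd (hr.odd_of_ne_two hr2) 1),
    orderOf_cycles one_ne_zero hσ, fun π hmem => hA ?_⟩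
  have hy : (π * σ * π⁻¹).cycleType = Multiset.replicate 1 r := by rw [cycleType_conj]; exact hσ
  have hcyc : (π * σ * π⁻¹).IsCycle := by
    rw [← card_cycleType_eq_one, hy, Multiset.card_replicate]
  have hsupp : (π * σ * π⁻¹).support.card = r := by
    rw [← sum_cycleType, hy, Multiset.sum_replicate, one_smul]
  exact Cfsg.Agent.S0713.result K hK hr (by rw [Fintype.card_fin]; exact hm)
    (by rw [Fintype.card_fin]; omega) hcyc hsupp hmem

end Cfsg.Agent.Lead.AltDerange
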