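/-
An almost simple primitive group with alternating socle has a derangement of order the largest
prime divisor of the degree.
-/
import Cfsg.Agent.Lib.Lead.AltDerange.Perm
import Cfsg.Agent.Lib.Perm.AltAut
import Mathlib.GroupTheory.GroupAction.Iwasawa
import Mathlib.GroupTheory.GroupAction.SubMulAction.Combination

set_option autoImplicit false

namespace Cfsg.Agent.Lead.AltDerange

open Equiv Equiv.Perm
open scoped Pointwise

variable {m : ℕ}

theorem exists_threeCycle_move (hm : 5 ≤ m) {D : Finset (Fin m)} (h1 : D.Nonempty) (h2 : D ≠ Finset.univ) :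
    ∃ c ∈ alternatingGroup (Fin m), ∃ z ∈ D, c z ∉ D := by
  obtain ⟨a, ha⟩ := h1
  obtain ⟨b, hb⟩ : ∃ b, b ∉ D := by
    by_contra! h
    exact h2 (Finset.eq_univ_iff_forall.2 h)
  have hab : a ≠ b := fun e => hb (e ▸ ha)
  obtain ⟨d, hd⟩ : ∃ d, d ∉ ({a, b} : Finset (Fin m)) := by
    by_contra! h
    have h3 := Finset.card_le_card (s := Finset.univ) (t := {a, b}) fun x _ => h x
    have h4 : ({a, b} : Finset (Fin m)).card ≤ 2 := Finset.card_le_two
    rw [Finset.card_univ, Fintype.card_fin] at h3
    omega
  simp only [Finset.mem_insert, Finset.mem_singleton, not_or] at hd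
  refine ⟨Cfsg.Agent.Perm.AltAut.cyc a b d,
    (Cfsg.Agent.Perm.AltAut.cyc_isThreeCycle hab (Ne.symm hd.1) (Ne.symm hd.2)).mem_alternatingGroup,
    a, ha, ?_⟩
  rwa [Cfsg.Agent.Perm.AltAut.cyc_left hab (Ne.symm hd.1)]

/-- The setwise stabiliser of `D` in the alternating group has index `binom(m, |D|)`. -/
theorem index_setStab (hm : 5 ≤ m) (D : Finset (Fin m)) (hD : 2 * D.card ≤ m)
    (A : Subgroup (alternatingGroup (Fin m)))
    (hA : ∀ π : alternatingGroup (Fin m), π ∈ A ↔ ∀ z ∈ D, (π : Perm (Fin m)) z ∈ D) :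
    A.index = m.choose D.card := by
  classical
  let Dc : Set.powersetCard (Fin m) D.card := ⟨D, rfl⟩
  have hsub : A = (MulAction.stabilizer (Perm (Fin m)) Dc).subgroupOf (alternatingGroup (Fin m)) := by
    ext π
    rw [Subgroup.mem_subgroupOf, MulAction.mem_stabilizer_iff, hA, Subtype.ext_iff]
    show _ ↔ (π : Perm (Fin m)) • D = D
    constructor
    · intro h
      refine Finset.eq_of_subset_of_card_le (fun w hw => ?_) (by rw [Finset.card_smul_finset])
      obtain ⟨z, hz, rfl⟩ := Finset.mem_smul_finset.1 hw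
      exact h z hz
    · intro h z hz
      rw [← h]
      exact Finset.smul_mem_smul_finset hz
  haveI : MulAction.IsPretransitive (Perm (Fin m)) (Set.powersetCard (Fin m) D.card) :=
    Set.powersetCard.isPretransitive
  rw [hsub, ← Subgroup.relIndex]
  have h1 := MulAction.index_stabilizer_of_transitive (Perm (Fin m)) Dc
  rw [Set.powersetCard.card, Nat.card_fin] at h1
  rw [← h1]
  set St := MulAction.stabilizer (Perm (Fin m)) Dc with hSt
  obtain ⟨a, ha, b, hb, hab⟩ : ∃ a ∈ Dᶜ, ∃ b ∈ Dᶜ, a ≠ b := by
    apply Finset.one_lt_card.1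
    rw [Finset.card_compl, Fintype.card_fin]
    omega
  have hs : Equiv.swap a b ∈ St := by
    rw [hSt, MulAction.mem_stabilizer_iff, Subtype.ext_iff]
    show Equiv.swap a b • D = D
    refine Finset.eq_of_subset_of_card_le (fun w hw => ?_) (by rw [Finset.card_smul_finset])
    obtain ⟨z, hz, rfl⟩ := Finset.mem_smul_finset.1 hw
    rw [Perm.smul_def, Equiv.swap_apply_of_ne_of_ne]
    · exact hz
    · exact fun e => Finset.mem_compl.1 ha (e ▸ hz)
    · exact fun e => Finset.mem_compl.1 hb (e ▸ hz)
  rw [← Subgroup.inf_relIndex_right]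
  have h3 : alternatingGroup (Fin m) ⊔ St = ⊤ := by
    haveI : Nontrivial (Fin m) := Fin.nontrivial_iff_two_le.2 (by omega)
    by_contra hne
    have h4 : (alternatingGroup (Fin m) ⊔ St).index ∣ 2 := by
      rw [← alternatingGroup.index_eq_two (α := Fin m)]
      exact Subgroup.index_dvd_of_le le_sup_left
    rcases (Nat.dvd_prime Nat.prime_two).1 h4 with h5 | h5
    · exact hne (Subgroup.index_eq_one.1 h5)
    · have h6 : alternatingGroup (Fin m) ⊔ St = alternatingGroup (Fin m) :=
        eq_alternatingGroup_of_index_eq_two h5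
      have h7 : Equiv.swap a b ∈ alternatingGroup (Fin m) :=
        h6 ▸ Subgroup.mem_sup_right hs
      rw [mem_alternatingGroup, Perm.sign_swap hab] at h7
      exact absurd h7 (by decide)
  haveI : Nontrivial (Fin m) := Fin.nontrivial_iff_two_le.2 (by omega)
  have h8 : (alternatingGroup (Fin m)).relIndex St = 2 := by
    rw [← Subgroup.relIndex_sup_right, sup_comm, h3, Subgroup.relIndex_top_right,
      alternatingGroup.index_eq_two]
  have h9 := Subgroup.relIndex_mul_index
    (inf_le_right : St ⊓ alternatingGroup (Fin m) ≤ alternatingGroup (Fin m))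
  have h10 := Subgroup.relIndex_mul_index (inf_le_left : St ⊓ alternatingGroup (Fin m) ≤ St)
  rw [Subgroup.inf_relIndex_left, h8, ← h9, alternatingGroup.index_eq_two] at h10
  omega

theorem even_four_of_pow_two (hm : 5 ≤ m) (h : ∀ s : ℕ, s.Prime → s ∣ m → s ≤ 2) : 4 ∣ m := by
  have h1 : m = 2 ^ m.primeFactorsList.length := Nat.eq_prime_pow_of_unique_prime_dvd (by omega)
    fun {d} hd hdm => le_antisymm (h d hd hdm) hd.two_le
  set a := m.primeFactorsList.length
  have : 2 ≤ a := by
    by_contra hlt
    interval_cases a <;> omega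
  rw [h1]
  exact (show 4 ∣ 2 ^ 2 by norm_num).trans (pow_dvd_pow 2 this)

variable {G Ω : Type*} [Group G] [Finite G] [MulAction G Ω] [FaithfulSMul G Ω] [Finite Ω]

theorem exists_derangement (T : Subgroup G) (hT : T.Normal) (hTc : Subgroup.centralizer (T : Set G) = ⊥)
    (m : ℕ) (hm : 5 ≤ m) (eT : ↥T ≃* ↥(alternatingGroup (Fin m)))
    (hprim : MulAction.IsPreprimitive G Ω) (hΩ : 2 ≤ Nat.card Ω) (r : ℕ) (hr : r.Prime)
    (hrd : r ∣ Nat.card Ω) (hmax : ∀ s : ℕ, s.Prime → s ∣ Nat.card Ω → s ≤ r) :
    ∃ g : G, orderOf g = r ∧ ∀ ω : Ω, g • ω ≠ ω := by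
  classical
  haveI := hprim
  haveI := Fact.mk hr
  haveI : Nontrivial Ω := Finite.one_lt_card_iff_nontrivial.1 hΩ
  haveI : Nontrivial (Fin m) := Fin.nontrivial_iff_two_le.2 (by omega)
  obtain ⟨ω⟩ := (inferInstance : Nonempty Ω)
  have hTA : Nat.card T = Nat.card (alternatingGroup (Fin m)) := Nat.card_congr eT.toEquiv
  have hTfac : 2 * Nat.card T = m.factorial := by
    rw [hTA, Nat.card_eq_fintype_card, two_mul_card_alternatingGroup, Fintype.card_perm,
      Fintype.card_fin]
  have hTtriv : MulAction.IsPretransitive T Ω := by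
    apply MulAction.IsQuasiPreprimitive.isPretransitive_of_normal
    intro hfix
    have h1 : ∀ t : T, t = 1 := fun t => Subtype.ext (FaithfulSMul.eq_of_smul_eq_smul (α := Ω)
      fun a => by
        rw [OneMemClass.coe_one, one_smul]
        exact (Set.eq_univ_iff_forall.1 hfix a) t)
    have h2 : Nat.card T = 1 := Nat.card_eq_one_iff_unique.2
      ⟨⟨fun a b => (h1 a).trans (h1 b).symm⟩, inferInstance⟩
    have h3 := Nat.factorial_le (show 2 ≤ m by omega)
    have h4 : 120 ≤ m.factorial := (show (5 : ℕ).factorial ≤ _ from Nat.factorial_le hm)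
    omega
  set A := MulAction.stabilizer T ω with hA
  have hn : A.index = Nat.card Ω := MulAction.index_stabilizer_of_transitive T ω
  -- reduction to an element of `T` without a conjugate in the stabiliser
  suffices hx : ∃ x : T, orderOf x = r ∧ ∀ t : T, t * x * t⁻¹ ∉ A by
    obtain ⟨x, hxo, hxn⟩ := hx
    refine ⟨x, by rw [Subgroup.orderOf_coe]; exact hxo, fun ω' hω' => ?_⟩
    obtain ⟨t, ht⟩ := MulAction.exists_smul_eq T ω' ω
    refine hxn t ?_
    rw [hA, MulAction.mem_stabilizer_iff, mul_smul, mul_smul, ← ht, inv_smul_smul]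
    exact congrArg _ hω'
  have hAcard : Nat.card A * Nat.card Ω = Nat.card T := by rw [← hn, Subgroup.card_mul_index]
  have hrT : r ∣ Nat.card T := hAcard ▸ hrd.mul_left _
  -- `r` prime to the stabiliser
  have hfree : ¬ r ∣ Nat.card A → ∃ x : T, orderOf x = r ∧ ∀ t : T, t * x * t⁻¹ ∉ A := by
    intro hno
    obtain ⟨x, hx⟩ := exists_prime_orderOf_dvd_card' r hrT
    refine ⟨x, hx, fun t ht => hno ?_⟩
    rw [← hx, ← (show orderOf (MulAut.conj t x) = orderOf x from (MulAut.conj t).orderOf_eq x),
      MulAut.conj_apply, ← Subgroup.orderOf_mk _ ht]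
    exact orderOf_dvd_natCard _
  by_cases hbig : m < 2 * r
  · refine hfree fun hd => not_sq_dvd_factorial hr m hbig ?_
    rw [← hTfac, ← hAcard]
    exact (Nat.mul_dvd_mul hd hrd).mul_left 2
  have hrm : 2 * r ≤ m := not_lt.1 hbig
  have hrp := hr.two_le
  -- odd primes above `r` do not divide the degree
  have hindex : ∀ p : ℕ, p.Prime → r < p → ¬ p ∣ A.index := by
    intro p hp hpr hd
    rw [hn] at hd
    exact absurd (hmax p hp hd) (by omega)
  by_cases h6 : m = 6
  · subst h6
    rcases (show r = 2 ∨ r = 3 by omega) with rfl | rfl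
    · -- degree a power of two: it is 8 and the stabiliser has odd order
      refine hfree fun hd => ?_
      have h360 : Nat.card T = 360 := by
        have : (6 : ℕ).factorial = 720 := by decide
        omega
      rw [h360] at hAcard
      have hf : (360 : ℕ) ∣ (Nat.card Ω).factorial := by
        have hinj : Function.Injective (MulAction.toPermHom T Ω) := by
          intro a b hab
          exact Subtype.ext (FaithfulSMul.eq_of_smul_eq_smul fun c : Ω =>
            congrArg (fun π : Equiv.Perm Ω => π c) hab)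
        have := Subgroup.card_dvd_of_injective _ hinj
        rwa [h360, Nat.card_perm] at this
      obtain ⟨a, ha⟩ : ∃ a, Nat.card Ω = 2 ^ a := ⟨_, Nat.eq_prime_pow_of_unique_prime_dvd (by omega)
        fun {d} hd' hdm => le_antisymm (hmax d hd' hdm) hd'.two_le⟩
      obtain ⟨c, hc⟩ := hd
      have hle : Nat.card Ω ≤ 4 := by
        have h180 : 2 ^ a ∣ 180 := ⟨c, by rw [← ha]; rw [hc] at hAcard; linarith⟩
        have ha8 : a < 8 := by
          by_contra hlt
          have := Nat.le_of_dvd (by norm_num) h180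
          have : 256 ≤ 2 ^ a := (show 256 = 2 ^ 8 by norm_num) ▸ Nat.pow_le_pow_right (by norm_num) (by omega)
          omega
        interval_cases a <;> omega
      have h24 : (Nat.card Ω).factorial ≤ (4 : ℕ).factorial := Nat.factorial_le hle
      have := Nat.le_of_dvd (Nat.factorial_pos _) hf
      simp [Nat.factorial] at h24
      omega
    · -- two classes of elements of order three
      by_cases hd : 3 ∣ Nat.card A
      swap
      · exact hfree hd
      by_contra hno
      push_neg at hno
      obtain ⟨σ, hσ⟩ := exists_cycles (m := 6) (r := 3) (c := 1) (by norm_num) (by norm_num)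
      obtain ⟨τ, hτ⟩ := exists_cycles (m := 6) (r := 3) (c := 2) (by norm_num) (by norm_num)
      let x : T := eT.symm ⟨σ, sign_cycles hσ (by decide)⟩
      let y : T := eT.symm ⟨τ, sign_cycles hτ (by decide)⟩
      have hox : orderOf x = 3 := by
        rw [eT.symm.orderOf_eq, Subgroup.orderOf_mk]; exact orderOf_cycles one_ne_zero hσ
      have hoy : orderOf y = 3 := by
        rw [eT.symm.orderOf_eq, Subgroup.orderOf_mk]; exact orderOf_cycles two_ne_zero hτ
      obtain ⟨t, ht⟩ := hno x hox
      obtain ⟨u, hu⟩ := hno y hoy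
      have h9 : ¬ 9 ∣ Nat.card A := by
        intro h9
        have h27 : 3 ^ 3 ∣ 360 := by
          have : Nat.card T = 360 := by
            have : (6 : ℕ).factorial = 720 := by decide
            omega
          rw [← this, ← hAcard, show 3 ^ 3 = 9 * 3 by norm_num]
          exact Nat.mul_dvd_mul h9 hrd
        norm_num at h27
      have hsyl : ∀ v : A, orderOf v = 3 → ∃ P : Sylow 3 A, (P : Subgroup A) = Subgroup.zpowers v := by
        intro v hv
        have hcv : Nat.card (Subgroup.zpowers v) = 3 := by rw [Nat.card_zpowers, hv]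
        have hp : IsPGroup 3 (Subgroup.zpowers v) :=
          IsPGroup.of_card (n := 1) (by rw [hcv, pow_one])
        refine ⟨hp.toSylow fun hi => h9 ?_, rfl⟩
        rw [← Subgroup.card_mul_index (Subgroup.zpowers v), hcv, show 9 = 3 * 3 by norm_num]
        exact Nat.mul_dvd_mul_left 3 hi
      have hov : ∀ (w s : T) (hw : s * w * s⁻¹ ∈ A), orderOf w = 3 →
          orderOf (⟨s * w * s⁻¹, hw⟩ : A) = 3 := fun w s hw h => by
        rw [Subgroup.orderOf_mk, ← MulAut.conj_apply, MulEquiv.orderOf_eq]; exact h
      obtain ⟨P, hP⟩ := hsyl ⟨t * x * t⁻¹, ht⟩ (hov x t ht hox)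
      obtain ⟨Q, hQ⟩ := hsyl ⟨u * y * u⁻¹, hu⟩ (hov y u hu hoy)
      obtain ⟨q, hq⟩ := MulAction.exists_smul_eq A P Q
      have h1 : q * ⟨t * x * t⁻¹, ht⟩ * q⁻¹ ∈ (q • P : Sylow 3 A) := by
        rw [← SetLike.mem_coe, Sylow.coe_smul, Set.mem_smul_set]
        exact ⟨⟨t * x * t⁻¹, ht⟩, by show _ ∈ (P : Subgroup A); rw [hP]; exact Subgroup.mem_zpowers _,
          by simp [MulAut.smul_def]⟩
      rw [hq] at h1
      have h2 : q * ⟨t * x * t⁻¹, ht⟩ * q⁻¹ ∈ Subgroup.zpowers (⟨u * y * u⁻¹, hu⟩ : A) := hQ ▸ h1
      obtain ⟨i, hi⟩ := Subgroup.mem_zpowers_iff.1 h2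
      have h3 := congrArg (fun v : A => ((eT (v : T) : alternatingGroup (Fin 6)) : Perm (Fin 6))) hi
      simp only [Subgroup.coe_zpow, map_zpow, Subgroup.coe_mul, InvMemClass.coe_inv, map_mul,
        map_inv] at h3
      have hxT : ((eT x : alternatingGroup (Fin 6)) : Perm (Fin 6)) = σ := by simp [x]
      have hyT : ((eT y : alternatingGroup (Fin 6)) : Perm (Fin 6)) = τ := by simp [y]
      rw [hxT, hyT] at h3
      set p1 : Perm (Fin 6) := ((eT (u : T) : alternatingGroup (Fin 6)) : Perm (Fin 6))
      set p2 : Perm (Fin 6) := ((eT (t : T) : alternatingGroup (Fin 6)) : Perm (Fin 6))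
      set p3 : Perm (Fin 6) := ((eT ((q : A) : T) : alternatingGroup (Fin 6)) : Perm (Fin 6))
      have h4 := congrArg Equiv.Perm.cycleType h3
      rw [cycleType_conj, cycleType_conj, hσ] at h4
      set c := p1 * τ * p1⁻¹ with hc
      have hct : c.cycleType = Multiset.replicate 2 3 := by rw [hc, cycleType_conj]; exact hτ
      have hco : orderOf c = 3 := orderOf_cycles two_ne_zero hct
      rw [← zpow_mod_orderOf, hco] at h4
      have h5 := Int.emod_nonneg i (show (3 : ℤ) ≠ 0 by norm_num)
      have h6 := Int.emod_lt_of_pos i (show (0 : ℤ) < 3 by norm_num)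
      push_cast at h4
      generalize i % 3 = j at h4 h5 h6
      interval_cases j
      · rw [zpow_zero, cycleType_one] at h4
        exact absurd (congrArg Multiset.card h4) (by simp)
      · rw [zpow_one, hct] at h4
        exact absurd (congrArg Multiset.card h4) (by simp)
      · have hinv : c ^ (2 : ℤ) = c⁻¹ := by
          have h7 : c ^ 3 = 1 := hco ▸ pow_orderOf_eq_one c
          rw [eq_inv_iff_mul_eq_one, ← h7]
          norm_cast
        rw [hinv, cycleType_inv, hct] at h4
        exact absurd (congrArg Multiset.card h4) (by simp)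
  · -- the embedding into the symmetric group
    have h6' : m ≠ 6 := h6
    let E : Perm (Fin m) ≃* MulAut (alternatingGroup (Fin m)) :=
      MulEquiv.ofBijective MulAut.conjNormal
        ⟨Cfsg.Agent.Perm.AltAut.conjNormal_injective (by omega), fun σ =>
          (Cfsg.Agent.Perm.AltAut.exists_perm_of_ne_six (by omega) h6' σ).imp fun π hπ => hπ.symm⟩
    let ψ : G →* Perm (Fin m) :=
      (E.symm.toMonoidHom.comp (MulAut.congr eT).toMonoidHom).comp (MulAut.conjNormal (H := T))
    have hψinj : Function.Injective ψ := by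
      refine (injective_iff_map_eq_one ψ).2 fun g hg => ?_
      have h1 : MulAut.conjNormal (H := T) g = 1 := by
        have h2 : (MulAut.congr eT) (MulAut.conjNormal (H := T) g) = 1 :=
          E.symm.injective (hg.trans (map_one E.symm).symm)
        exact (MulAut.congr eT).injective (h2.trans (map_one _).symm)
      refine (Subgroup.eq_bot_iff_forall _).1 hTc g (Subgroup.mem_centralizer_iff.2 fun t ht => ?_)
      have h3 := congrArg (fun σ : MulAut T => ((σ ⟨t, ht⟩ : T) : G)) h1
      rw [MulAut.conjNormal_apply] at h3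
      simp only [MulAut.one_apply] at h3
      exact (mul_inv_eq_iff_eq_mul.1 h3).symm
    have hψT : ∀ t : T, ψ (t : G) = (eT t : Perm (Fin m)) := by
      intro t
      show E.symm ((MulAut.congr eT) (MulAut.conjNormal (H := T) (t : G))) = _
      rw [MulEquiv.symm_apply_eq]
      ext1 a
      apply Subtype.ext
      show ((eT ((MulAut.conjNormal (t : G)) (eT.symm a)) : alternatingGroup (Fin m)) : Perm (Fin m)) =
        ((MulAut.conjNormal ((eT t : alternatingGroup (Fin m)) : Perm (Fin m)) a : alternatingGroup (Fin m)) : Perm (Fin m))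
      rw [show MulAut.conjNormal (t : G) (eT.symm a) = t * eT.symm a * t⁻¹ from
        Subtype.ext (by simp [MulAut.conjNormal_apply]), map_mul, map_mul, map_inv,
        MulEquiv.apply_symm_apply, MulAut.conjNormal_apply]
      rfl
    set H := MulAction.stabilizer G ω with hH
    set K := H.map ψ with hK
    have hAK : ∀ t : T, (t ∈ A ↔ (eT t : Perm (Fin m)) ∈ K) := by
      intro t
      rw [← hψT, hK, Subgroup.mem_map_iff_mem hψinj]
      rfl
    have hAH : A ≠ ⊤ := fun h => by
      rw [h, Subgroup.index_top] at hn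
      omega
    have hKA : ¬ alternatingGroup (Fin m) ≤ K := fun h => hAH (eq_top_iff.2 fun t _ =>
      (hAK t).2 (h (eT t).2))
    have hHmax : IsCoatom H := MulAction.IsPreprimitive.isCoatom_stabilizer_of_isPreprimitive G ω
    -- transfer a permutation to `T`
    have hto : (∃ x ∈ alternatingGroup (Fin m), orderOf x = r ∧
        ∀ π : Perm (Fin m), π * x * π⁻¹ ∉ K) → ∃ x : T, orderOf x = r ∧ ∀ t : T, t * x * t⁻¹ ∉ A := by
      rintro ⟨x, hx, hxo, hxn⟩
      refine ⟨eT.symm ⟨x, hx⟩, by rw [eT.symm.orderOf_eq, Subgroup.orderOf_mk]; exact hxo, fun t ht => ?_⟩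
      refine hxn (eT t) ?_
      have := (hAK _).1 ht
      simpa using this
    by_cases htrans : MulAction.IsPretransitive K (Fin m)
    · by_cases hKp : MulAction.IsPreprimitive K (Fin m)
      · rcases eq_or_ne r 2 with rfl | hr2
        · exfalso
          obtain ⟨σ, hσ⟩ := exists_cycles (m := m) (r := 3) (c := 1) (by norm_num) (by omega)
          let x : T := eT.symm ⟨σ, sign_cycles hσ (by decide)⟩
          haveI : Fact (Nat.Prime 3) := ⟨Nat.prime_three⟩
          have hox : orderOf x = 3 := by
            rw [eT.symm.orderOf_eq, Subgroup.orderOf_mk]; exact orderOf_cycles one_ne_zero hσ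
          obtain ⟨t, ht⟩ := exists_conj_mem A 3 (hindex 3 Nat.prime_three (by norm_num)) x
            (IsPGroup.of_card (n := 1) (by rw [Nat.card_zpowers, hox, pow_one]))
          have h3 := (hAK _).1 ht
          simp only [x, map_mul, map_inv, MulEquiv.apply_symm_apply, Subgroup.coe_mul,
            InvMemClass.coe_inv] at h3
          refine hKA (alternatingGroup_le_of_isPreprimitive_of_isThreeCycle_mem hKp ?_ h3)
          rw [IsThreeCycle, cycleType_conj, hσ]
          rfl
        · exact hto (primitive_case hm K hKp hKA hr hr2 hrm)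
      · exfalso
        haveI := htrans
        obtain ⟨B, hB, hBt⟩ : ∃ B : Set (Fin m), MulAction.IsBlock K B ∧ ¬ MulAction.IsTrivialBlock B := by
          by_contra! h
          exact hKp { isTrivialBlock_of_isBlock := fun {B} hB => h B hB }
        simp only [MulAction.IsTrivialBlock, not_or, Set.not_subsingleton_iff] at hBt
        have ha : 2 ≤ B.ncard := (Set.one_lt_ncard (Set.toFinite B)).2 hBt.1
        have ham : 2 * B.ncard ≤ m := by
          by_contra hlt
          exact hBt.2 (hB.eq_univ_of_card_lt (by rw [Nat.card_fin]; omega))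
        obtain ⟨p, hp, hp1, hp2⟩ := Nat.exists_prime_lt_and_le_two_mul (m / 2) (by omega)
        have hpm : m < 2 * p := by omega
        refine imprimitive_case K hB ha ham hp hpm ?_
        have hpT : p ∣ Nat.card T := by
          have h1 : p ∣ 2 * Nat.card T := hTfac ▸ Nat.dvd_factorial hp.pos (by omega)
          exact (hp.dvd_mul.1 h1).resolve_left fun h => by
            have := Nat.le_of_dvd (by norm_num) h; omega
        have hpA : p ∣ Nat.card A := by
          rw [← hAcard] at hpT
          rcases hp.dvd_mul.1 hpT with h | h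
          · exact h
          · exact absurd (hmax p hp h) (by omega)
        refine hpA.trans (Subgroup.card_dvd_of_injective
          ({ toFun := fun a => ⟨(eT (a : T) : Perm (Fin m)), (hAK a).1 a.2⟩
             map_one' := Subtype.ext (by simp)
             map_mul' := fun a b => Subtype.ext (by simp) } : A →* K) fun a b hab => ?_)
        exact Subtype.ext (eT.injective (Subtype.ext (congrArg (fun v : K => (v : Perm (Fin m))) hab)))
    · -- intransitive: `K` is the stabiliser of a set
      obtain ⟨z, hz⟩ : ∃ z : Fin m, MulAction.orbit K z ≠ Set.univ := by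
        by_contra! h
        exact htrans ⟨fun a b => by
          have : b ∈ MulAction.orbit K a := h a ▸ Set.mem_univ b
          exact this⟩
      obtain ⟨D, hDne, hDu, hDm, hDK⟩ : ∃ D : Finset (Fin m), D.Nonempty ∧ D ≠ Finset.univ ∧
          2 * D.card ≤ m ∧ ∀ k ∈ K, ∀ w ∈ D, k w ∈ D := by
        set O := (MulAction.orbit K z).toFinset with hO
        have hOK : ∀ k ∈ K, ∀ w, w ∈ O → k w ∈ O := fun k hk w hw => by
          rw [hO, Set.mem_toFinset] at hw ⊢
          exact MulAction.mem_orbit_of_mem_orbit (⟨k, hk⟩ : K) hw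
        have hOne : O.Nonempty := ⟨z, by rw [hO, Set.mem_toFinset]; exact MulAction.mem_orbit_self z⟩
        have hOu : O ≠ Finset.univ := fun h => hz (by
          rw [← Set.toFinset_eq_univ]; exact h)
        by_cases hle : 2 * O.card ≤ m
        · exact ⟨O, hOne, hOu, hle, hOK⟩
        · refine ⟨Oᶜ, ?_, ?_, ?_, fun k hk w hw => ?_⟩
          · rw [Finset.nonempty_iff_ne_empty, ne_eq, Finset.compl_eq_empty_iff]; exact hOu
          · rw [ne_eq, Finset.compl_eq_univ_iff]; exact hOne.ne_empty
          · rw [Finset.card_compl, Fintype.card_fin]; omega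
          · rw [Finset.mem_compl] at hw ⊢
            intro h
            exact hw (by simpa using hOK k⁻¹ (inv_mem hk) (k w) h)
      let S : Subgroup (Perm (Fin m)) := MulAction.stabilizer (Perm (Fin m)) D
      have hSmem : ∀ π : Perm (Fin m), π ∈ S ↔ ∀ w ∈ D, π w ∈ D := by
        intro π
        rw [MulAction.mem_stabilizer_iff]
        constructor
        · intro h w hw
          have h2 := Finset.smul_mem_smul_finset (a := π) hw
          rwa [h] at h2
        · intro h
          refine Finset.eq_of_subset_of_card_le (fun w hw => ?_) (by rw [Finset.card_smul_finset])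
          obtain ⟨v, hv, rfl⟩ := Finset.mem_smul_finset.1 hw
          exact h v hv
      have hHL : H ≤ S.comap ψ := fun h hh => (hSmem _).2 (hDK _ (Subgroup.mem_map_of_mem ψ hh))
      have hLtop : S.comap ψ ≠ ⊤ := by
        obtain ⟨c, hc, v, hv, hcv⟩ := exists_threeCycle_move hm hDne hDu
        intro h
        have h1 : ((eT.symm ⟨c, hc⟩ : T) : G) ∈ S.comap ψ := h ▸ Subgroup.mem_top _
        rw [Subgroup.mem_comap, hψT, MulEquiv.apply_symm_apply] at h1
        exact hcv ((hSmem _).1 h1 v hv)
      have hLH : S.comap ψ = H := by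
        rcases eq_or_lt_of_le hHL with h | h
        · exact h.symm
        · exact absurd (hHmax.2 _ h) hLtop
      have hAmem : ∀ π : alternatingGroup (Fin m), π ∈ A.map eT.toMonoidHom ↔
          ∀ w ∈ D, (π : Perm (Fin m)) w ∈ D := by
        intro π
        rw [← hSmem, Subgroup.mem_map_equiv]
        show (eT.symm π : T) ∈ A ↔ _
        rw [show ((π : Perm (Fin m)) ∈ S) ↔ ((eT.symm π : T) : G) ∈ S.comap ψ by
          rw [Subgroup.mem_comap, hψT, MulEquiv.apply_symm_apply], hLH]
        rfl
      have hchoose : Nat.card Ω = m.choose D.card := by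
        rw [← hn, ← index_setStab hm D hDm _ hAmem]
        exact (Subgroup.index_map_equiv A eT).symm
      obtain ⟨p, hp, hpk, hpd⟩ :=
        Sylvester.exists_prime_gt_dvd_choose (Finset.card_pos.2 hDne) hDm
      have hrk : D.card < r := lt_of_lt_of_le hpk (hmax p hp (hchoose ▸ hpd))
      have h2 : r = 2 → 4 ∣ m := by
        rintro rfl
        have hk1 : D.card = 1 := by have := Finset.card_pos.2 hDne; omega
        refine even_four_of_pow_two hm fun s hs hsd => hmax s hs ?_
        rw [hchoose, hk1, Nat.choose_one_right]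
        exact hsd
      obtain ⟨x, hx, hxo, hxn⟩ := intransitive_case hm (Finset.card_pos.2 hDne) hDm hr
        (hchoose ▸ hrd) hrk hrm h2 D rfl
      exact hto ⟨x, hx, hxo, fun π hπ => hxn π (hDK _ hπ)⟩

end Cfsg.Agent.Lead.AltDerange
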